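import Groth.Prelude.Def_W4sga6xxiiiPolyMap
import Mathlib.RingTheory.Binomial
import Mathlib.Algebra.Order.Ring.Rat
import Mathlib.Data.Nat.Prime.Defs
import Mathlib.Topology.Algebra.Polynomial
import Mathlib.Topology.Instances.Rat
import Mathlib.Analysis.SpecificLimits.Basic
import Mathlib.RingTheory.TensorProduct.Basic
import Mathlib.RingTheory.Ideal.Operations

/-! Polynomial maps between abelian groups. -/

set_option autoImplicit false
set_option linter.unusedVariables false
set_option linter.unusedSectionVars false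
set_option linter.style.haveILetI false

universe u

open Polynomial TensorProduct Filter

namespace Groth.Agent.PolyMap50

/-- The binomial polynomial. -/
noncomputable def binom (k : ℕ) : ℚ[X] := C ((k.factorial : ℚ)⁻¹) * descPochhammer ℚ k

theorem eval_binom (n : ℤ) (k : ℕ) : (binom k).eval (n : ℚ) = (Ring.choose n k : ℤ) := by
  have h : (descPochhammer ℤ k).eval n = k.factorial • Ring.choose n k := by
    rw [← Ring.descPochhammer_eq_factorial_smul_choose, ← Polynomial.aeval_eq_smeval]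
    simp
  have h2 : (descPochhammer ℚ k).eval (n : ℚ) = (((descPochhammer ℤ k).eval n : ℤ) : ℚ) := by
    rw [← descPochhammer_map (Int.castRingHom ℚ), Polynomial.eval_intCast_map]
    rfl
  rw [binom, eval_mul, eval_C, h2, h]
  push_cast
  rw [nsmul_eq_mul]
  have : (k.factorial : ℚ) ≠ 0 := by exact_mod_cast Nat.factorial_ne_zero k
  push_cast
  field_simp

variable {G : Type u} [AddCommGroup G] {f : G → ℚ}

theorem exists_poly (hf : W4sga6xxiii.IsPolyMap f) (x : G) :
    ∃ P : ℚ[X], ∀ t : ℤ, f (t • x) = P.eval (t : ℚ) := by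
  obtain ⟨m, y, -, hy⟩ := hf 1 (fun _ => x)
  refine ⟨∑ k : Fin 1 → Fin (m + 1), C (y k) * binom (k 0 : ℕ), fun t => ?_⟩
  have := hy (fun _ => t)
  simp only [Fin.sum_univ_one, Fin.prod_univ_one] at this
  rw [this, eval_finsetSum]
  refine Finset.sum_congr rfl fun k _ => ?_
  rw [eval_mul, eval_C, eval_binom, zsmul_eq_mul, mul_comm]

theorem eq_zero_on_divisible (p : ℕ) (hp : p.Prime) (G' : AddSubgroup G)
    (hdiv : ∀ x ∈ G', ∃ y ∈ G', p • y = x) (hf : W4sga6xxiii.IsPolyMap f)
    (hint : ∀ x, ∃ z : ℤ, f x = z) {x : G} (hx : x ∈ G') : f x = f 0 := by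
  choose g hgm hg using hdiv
  let seq : ℕ → G' := fun k => Nat.rec ⟨x, hx⟩ (fun _ y => ⟨g y.1 y.2, hgm y.1 y.2⟩) k
  have hseq : ∀ k, p ^ k • (seq k).1 = x := by
    intro k
    induction k with
    | zero => simp [seq]
    | succ k ih => rw [pow_succ, mul_smul, show p • (seq (k + 1)).1 = (seq k).1 from hg _ _, ih]
  obtain ⟨P, hP⟩ := exists_poly hf x
  have hp0 : (p : ℚ) ≠ 0 := by exact_mod_cast hp.ne_zero
  have hval : ∀ k, ∃ z : ℤ, P.eval (((p : ℚ)⁻¹) ^ k) = z := by
    intro k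
    obtain ⟨Q, hQ⟩ := exists_poly hf (seq k).1
    have h : Q.comp (C ((p : ℚ) ^ k) * X) = P := by
      refine Polynomial.eq_of_infinite_eval_eq _ _
        (Set.infinite_of_injective_forall_mem (f := fun t : ℤ => (t : ℚ)) Int.cast_injective
          fun t => ?_)
      show (Q.comp (C ((p : ℚ) ^ k) * X)).eval (t : ℚ) = P.eval (t : ℚ)
      rw [← hP]
      conv_rhs => rw [← hseq k, ← natCast_zsmul, ← mul_smul, hQ]
      simp only [eval_comp, eval_mul, eval_C, eval_X]
      push_cast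
      ring_nf
    obtain ⟨z, hz⟩ := hint (seq k).1
    refine ⟨z, ?_⟩
    rw [← hz, ← one_zsmul (seq k).1, hQ, ← h]
    simp [inv_pow, mul_inv_cancel₀ (pow_ne_zero k hp0)]
  have h0 : P.eval 0 = f 0 := by
    have := hP 0
    simpa using this.symm
  obtain ⟨z₀, hz₀⟩ := hint 0
  have htend : Tendsto (fun k : ℕ => P.eval (((p : ℚ)⁻¹) ^ k)) atTop (nhds (P.eval 0)) := by
    refine (P.continuous.tendsto 0).comp ?_
    refine tendsto_pow_atTop_nhds_zero_of_lt_one (by positivity) ?_
    rw [inv_lt_one_iff₀]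
    exact Or.inr (by exact_mod_cast hp.one_lt)
  have hnhds : Set.Ioo (P.eval 0 - 1) (P.eval 0 + 1) ∈ nhds (P.eval 0) :=
    Ioo_mem_nhds (by linarith) (by linarith)
  obtain ⟨N, hN⟩ := eventually_atTop.1 (htend.eventually hnhds)
  have hconst : P = C (f 0) := by
    refine Polynomial.eq_of_infinite_eval_eq _ _
      (Set.infinite_of_injective_forall_mem (f := fun k : ℕ => ((p : ℚ)⁻¹) ^ (N + k)) ?_ fun k => ?_)
    · intro a b hab
      simp only [inv_pow, inv_inj] at hab
      have : p ^ (N + a) = p ^ (N + b) := by exact_mod_cast hab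
      exact Nat.add_left_cancel (Nat.pow_right_injective hp.two_le this)
    · show P.eval _ = (C (f 0)).eval _
      obtain ⟨z, hz⟩ := hval (N + k)
      have h := hN (N + k) (Nat.le_add_right _ _)
      rw [hz, h0, hz₀] at h
      rw [eval_C, hz, hz₀]
      have h1 : z₀ - 1 < z := by exact_mod_cast h.1
      have h2 : z < z₀ + 1 := by exact_mod_cast h.2
      exact_mod_cast (show z = z₀ by omega)
  have := hP 1
  rw [one_zsmul] at this
  rw [this, hconst, eval_C]

theorem const_of_divisible (G' : AddSubgroup G) (p : ℕ) (hp : p.Prime)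
    (hdiv : ∀ x ∈ G', ∃ y ∈ G', p • y = x) (htor : ∀ x : G, ∃ n : ℤ, n ≠ 0 ∧ n • x ∈ G')
    (hf : W4sga6xxiii.IsPolyMap f) (hint : ∀ x, ∃ z : ℤ, f x = z) (x : G) : f x = f 0 := by
  obtain ⟨n, hn, hnx⟩ := htor x
  obtain ⟨P, hP⟩ := exists_poly hf x
  have hconst : P = C (f 0) := by
    refine Polynomial.eq_of_infinite_eval_eq _ _
      (Set.infinite_of_injective_forall_mem (f := fun t : ℤ => ((t * n : ℤ) : ℚ)) ?_ fun t => ?_)
    · intro a b hab
      exact mul_right_cancel₀ hn (Int.cast_injective (α := ℚ) hab)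
    · show P.eval _ = (C (f 0)).eval _
      rw [← hP, eval_C]
      exact eq_zero_on_divisible p hp G' hdiv hf hint (by
        rw [mul_smul]; exact zsmul_mem hnx t)
  have := hP 1
  rw [one_zsmul] at this
  rw [this, hconst, eval_C]

section Units

variable {A : Type u} [CommRing A]

theorem zpow_eq_sum_choose (m : ℕ) (u : Aˣ) (hy : ((u : A) - 1) ^ (m + 1) = 0) (n : ℤ) :
    ((u ^ n : Aˣ) : A) = ∑ k : Fin (m + 1), Ring.choose n (k : ℕ) • ((u : A) - 1) ^ (k : ℕ) := by
  let y : A := (u : A) - 1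
  let g : ℤ → A := fun n => ∑ k : Fin (m + 1), Ring.choose n (k : ℕ) • y ^ (k : ℕ)
  have hg : ∀ n : ℤ, g (n + 1) = (u : A) * g n := by
    intro n
    have hu : (u : A) = 1 + y := by simp [y]
    have h3 : y * ∑ k : Fin (m + 1), Ring.choose n (k : ℕ) • y ^ (k : ℕ) =
        ∑ k : Fin m, Ring.choose n (k : ℕ) • y ^ ((k : ℕ) + 1) := by
      rw [Fin.sum_univ_castSucc, mul_add, Finset.mul_sum]
      simp only [Fin.val_castSucc, Fin.val_last, mul_smul_comm, ← pow_succ']
      rw [show y ^ (m + 1) = 0 from hy]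
      simp
    simp only [g, hu, add_mul, one_mul, h3]
    rw [Fin.sum_univ_succ, Fin.sum_univ_succ (f := fun k : Fin (m + 1) => Ring.choose n (k : ℕ) • y ^ (k : ℕ))]
    simp only [Fin.val_zero, Fin.val_succ, Ring.choose_zero_right, Ring.choose_succ_succ, add_smul,
      Finset.sum_add_distrib]
    abel
  have h0 : g 0 = 1 := by
    simp only [g]
    rw [Fin.sum_univ_succ]
    simp [Ring.choose_zero_succ]
  show ((u ^ n : Aˣ) : A) = g n
  induction n with
  | zero => simp [h0]
  | succ n ih => rw [hg, zpow_add_one, Units.val_mul, ih, mul_comm]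
  | pred n ih =>
    have h2 := hg (-(n : ℤ) - 1)
    rw [sub_add_cancel, ← ih] at h2
    rw [zpow_sub_one, Units.val_mul, h2, mul_comm (u : A), mul_assoc, Units.mul_inv, mul_one]

theorem isPolyMapLE_units (I : Ideal A) (m : ℕ) (hI : I ^ (m + 1) = ⊥)
    (P : Subgroup Aˣ) (hP : ∀ u : Aˣ, u ∈ P ↔ (u : A) - 1 ∈ I) :
    W4sga6xxiii.IsPolyMapLE
      (fun u : Additive P => (((Additive.toMul u : P) : Aˣ) : A) ⊗ₜ[ℤ] (1 : ℚ)) m := by
  intro r x
  let w : Fin r → Aˣ := fun i => ((Additive.toMul (x i) : P) : Aˣ)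
  have hw : ∀ i, (w i : A) - 1 ∈ I := fun i => (hP _).1 (Additive.toMul (x i) : P).2
  refine ⟨fun k => (∏ i, ((w i : A) - 1) ^ (k i : ℕ)) ⊗ₜ[ℤ] (1 : ℚ), fun k hk => ?_, fun n => ?_⟩
  · have h : (∏ i, ((w i : A) - 1) ^ (k i : ℕ)) ∈ I ^ (m + 1) := by
      refine Ideal.pow_le_pow_right hk ?_
      rw [← Finset.prod_pow_eq_pow_sum]
      exact Ideal.prod_mem_prod fun i _ => Ideal.pow_mem_pow (hw i) _
    rw [hI, Ideal.mem_bot] at h
    simp [h]
  · have hsum : ((Additive.toMul (∑ i, n i • x i) : P) : Aˣ) = ∏ i, w i ^ n i := by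
      rw [toMul_sum]
      simp [w, Subgroup.val_finsetProd]
    show (((Additive.toMul (∑ i, n i • x i) : P) : Aˣ) : A) ⊗ₜ[ℤ] (1 : ℚ) = _
    rw [hsum, Units.coe_prod]
    have hz : ∀ i, ((w i : A) - 1) ^ (m + 1) = 0 := fun i => by
      have := Ideal.pow_mem_pow (hw i) (m + 1)
      rwa [hI, Ideal.mem_bot] at this
    rw [Finset.prod_congr rfl fun i _ => zpow_eq_sum_choose m (w i) (hz i) (n i),
      Fintype.prod_sum, TensorProduct.sum_tmul]
    refine Finset.sum_congr rfl fun k _ => ?_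
    rw [Finset.prod_smul, TensorProduct.smul_tmul']

end Units

end Groth.Agent.PolyMap50
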